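import Groth.Agent.L28.FinitePush.Alg
import Groth.Agent.L28.ExtShriek.Descent
import Groth.Agent.L28.ExtShriek.FiniteEt
import Groth.Agent.L28.ExtShriek.Local
import Groth.Agent.L28.ExtShriek.Closures
import Groth.Agent.L27.ExtZero.ShriekProper
import Groth.Agent.L27.ExtZero.ToShriek
import Groth.Agent.L27.EtSite.BaseChangeIso
import Groth.Agent.L27.EtSite.PropA
import Mathlib.AlgebraicGeometry.Morphisms.Finite
import Mathlib.AlgebraicGeometry.Morphisms.Etale
import Mathlib.AlgebraicGeometry.Morphisms.ClosedImmersion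
import Mathlib.AlgebraicGeometry.ResidueField

/-!
Direct images of constructible sheaves along finite morphisms of finite presentation are constructible.
-/

set_option autoImplicit false
set_option linter.style.haveILetI false

universe u

open CategoryTheory CategoryTheory.Limits AlgebraicGeometry Opposite TopologicalSpace

set_option backward.isDefEq.respectTransparency.types false

namespace Groth.L28.FinitePush

theorem isClopen_basicOpen {A : CommRingCat.{u}} (hA : IsVNR A) (a : A) :
    IsClopen (PrimeSpectrum.basicOpen a : Set (PrimeSpectrum A)) := by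
  refine ⟨?_, PrimeSpectrum.isOpen_basicOpen⟩
  obtain ⟨b, hb⟩ := hA a
  have e : (PrimeSpectrum.basicOpen a : Set (PrimeSpectrum A)) = PrimeSpectrum.zeroLocus {1 - a * b} := by
    ext P
    rw [SetLike.mem_coe, PrimeSpectrum.mem_basicOpen, PrimeSpectrum.mem_zeroLocus, Set.singleton_subset_iff,
      SetLike.mem_coe]
    refine ⟨fun h => ?_, fun h ha => P.isPrime.ne_top ((Ideal.eq_top_iff_one _).2 ?_)⟩
    · have h0 : a * (1 - a * b) ∈ P.asIdeal := by
        rw [show a * (1 - a * b) = a - a * b * a by ring, hb, sub_self]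
        exact zero_mem _
      exact (P.isPrime.mem_or_mem h0).resolve_left h
    · simpa using add_mem h (P.asIdeal.mul_mem_right b ha)
  rw [e]
  exact PrimeSpectrum.isClosed_zeroLocus _

theorem isClopen_of_isConstructible {A : CommRingCat.{u}} (hA : IsVNR A) {s : Set ↥(Spec A)}
    (hs : Topology.IsConstructible s) : IsClopen s := by
  induction hs using Topology.IsConstructible.empty_union_induction with
  | open_retrocompact U hU hUc =>
    obtain ⟨t, ht⟩ := (PrimeSpectrum.isBasis_basic_opens.exists_finite_of_isCompact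
      (U := ⟨U, hU⟩) hUc.isCompact)
    obtain ⟨hfin, hU'⟩ := ht.2
    have e : U = ⋃ o ∈ t, (o : Set (PrimeSpectrum A)) := by
      rw [show U = ((⟨U, hU⟩ : Opens (PrimeSpectrum A)) : Set (PrimeSpectrum A)) from rfl, hU']
      simp [Opens.coe_sSup]
    rw [e]
    refine hfin.isClopen_biUnion fun o ho => ?_
    obtain ⟨a, rfl⟩ := ht.1 ho
    exact isClopen_basicOpen hA a
  | union s hs t ht h1 h2 => exact h1.union h2
  | compl s hs h => exact h.compl

theorem isFLC_of_isConstructible {A : CommRingCat.{u}} (hA : IsVNR A) {G : EtCoh.Ab (Spec A)}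
    (hG : EtPBC.IsConstructible G) : EtCoh.IsFiniteLocallyConstant G := by
  haveI : _root_.IsReduced A := ⟨fun x hx => by
    obtain ⟨b, hb⟩ := hA x
    obtain ⟨n, hn⟩ := hx
    have h : ∀ m : ℕ, x = x * (b * x) ^ m := fun m => by
      induction m with
      | zero => simp
      | succ m ih => rw [pow_succ, ← mul_assoc, ← ih, ← mul_assoc, hb]
    rw [h n, mul_pow, hn, mul_zero, mul_zero]⟩
  obtain ⟨n, T, g, h1, h2, -, h4, h5⟩ :=
    (Strata.loc_iff_strat (Strata.stable_lcPred G)).1 ((Strata.isConstructible_iff G).1 hG)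
  refine ExtShriek.isFLC_of_cover fun x => ?_
  obtain ⟨i, hi⟩ := Set.mem_iUnion.1 (h4.symm ▸ Set.mem_univ x : x ∈ ⋃ i, Set.range (g i))
  let O : (Spec A).Opens := ⟨Set.range (g i), (isClopen_of_isConstructible hA (h2 i)).2⟩
  refine ⟨O, O.ι, inferInstance, ⟨⟨x, hi⟩, rfl⟩, ?_⟩
  haveI := h1 i
  obtain ⟨l, hl⟩ := ExtShriek.exists_factor_immersion (g i) O.ι (Scheme.Opens.range_ι O).le
  show Strata.lcPred G O.ι
  rw [← hl]
  exact Strata.stable_lcPred G l (g i) (h5 i)

theorem isConstructible_of_isFLC {X : Scheme.{u}} {F : EtCoh.Ab X} (h : EtCoh.IsFiniteLocallyConstant F) :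
    EtPBC.IsConstructible F := by
  rw [Strata.isConstructible_iff]
  intro U _
  refine ⟨1, fun _ => U, fun _ => 𝟙 _, fun _ => inferInstance, fun _ => ?_, fun i j hij => absurd (Subsingleton.elim i j) hij,
    ?_, fun _ => ?_⟩
  · rw [show Set.range (𝟙 (U : Scheme.{u}) : (U : Scheme.{u}) ⟶ U) = Set.univ from Set.range_id]
    exact .univ
  · exact Set.eq_univ_of_forall fun x => Set.mem_iUnion.2 ⟨0, x, rfl⟩
  · show EtCoh.IsFiniteLocallyConstant _
    exact LocConst.isFiniteLocallyConstant_pull _ _ h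

variable {ι : Type u} {K : ι → Type u} [∀ i, Field (K i)] [∀ i, IsAlgClosed (K i)]

theorem isConstructible_push_prod {P : Scheme.{u}} (f : P ⟶ Spec (CommRingCat.of (∀ i, K i))) [IsFinite f]
    [LocallyOfFinitePresentation f] {G : EtCoh.Ab P} (hG : EtPBC.IsConstructible G) :
    EtPBC.IsConstructible ((EtCoh.push f).obj G) := by
  haveI : IsAffine P := isAffine_of_isAffineHom f
  obtain ⟨ψ, hψ⟩ : ∃ ψ : CommRingCat.of (∀ i, K i) ⟶ Γ(P, ⊤), Spec.map ψ = P.isoSpec.inv ≫ f :=
    Spec.map_surjective _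
  letI : Algebra (∀ i, K i) Γ(P, ⊤) := ψ.hom.toAlgebra
  haveI : Module.Finite (∀ i, K i) Γ(P, ⊤) := (IsFinite.SpecMap_iff ψ).1 (hψ ▸ inferInstance)
  haveI : Algebra.FinitePresentation (∀ i, K i) Γ(P, ⊤) :=
    (HasRingHomProperty.Spec_iff (P := @LocallyOfFinitePresentation) (φ := ψ)).1 (hψ ▸ inferInstance)
  haveI : Module.FinitePresentation (∀ i, K i) Γ(P, ⊤) := Module.FinitePresentation.of_finite_of_finitePresentation _ _
  obtain ⟨N, S, σ, hσ, hker, hcomp⟩ := exists_splitting (K := K) (B := Γ(P, ⊤))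
  let A' := CommRingCat.of (∀ (k : Fin N) (i : S k), K i.1)
  let s : Spec A' ⟶ P := Spec.map (CommRingCat.ofHom σ) ≫ P.isoSpec.inv
  haveI : IsClosedImmersion (Spec.map (CommRingCat.ofHom σ)) := IsClosedImmersion.spec_of_surjective _ hσ
  haveI : Surjective (Spec.map (CommRingCat.ofHom σ)) := ⟨Set.range_eq_univ.1 (by
    show Set.range (PrimeSpectrum.comap σ) = Set.univ
    rw [range_comap_of_surjective _ _ hσ, Set.eq_univ_iff_forall]
    exact fun p x hx => (Ideal.IsPrime.mem_of_pow_mem p.isPrime _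
      ((hker x (RingHom.mem_ker.1 hx)).choose_spec ▸ zero_mem _)))⟩
  haveI : IsClosedImmersion s := inferInstance
  haveI : Surjective s := inferInstance
  have hsf : s ≫ f = Spec.map (CommRingCat.ofHom (RingHom.pi fun k => restr (K := K) (S k))) := by
    rw [← hcomp, Category.assoc, ← hψ, ← Spec.map_comp]
    rfl
  have hfe : IsFinite (s ≫ f) ∧ AlgebraicGeometry.Etale (s ≫ f) := by
    letI : ∀ k, Algebra (∀ i, K i) (∀ i : S k, K i.1) := fun k => (restr (S k)).toAlgebra
    haveI : ∀ k, Algebra.Etale (∀ i, K i) (∀ i : S k, K i.1) := fun k => by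
      classical
      haveI := isLocalizationAway_restr (K := K) (S k)
      exact Algebra.Etale.of_isLocalizationAway (fun i => if i ∈ S k then 1 else 0 : ∀ i, K i)
    haveI : ∀ k, Module.Finite (∀ i, K i) (∀ i : S k, K i.1) := fun k =>
      Module.Finite.of_surjective (Algebra.linearMap _ _) (surjective_restr (S k))
    have e : algebraMap (∀ i, K i) (∀ (k : Fin N) (i : S k), K i.1) = RingHom.pi fun k => restr (K := K) (S k) := rfl
    rw [hsf, ← e]
    exact ⟨(IsFinite.SpecMap_iff _).2 (RingHom.finite_algebraMap.2 inferInstance),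
      (HasRingHomProperty.Spec_iff (P := @AlgebraicGeometry.Etale)).2 (RingHom.etale_algebraMap.2 inferInstance)⟩
  haveI := hfe.1
  haveI := hfe.2
  have hA' : IsVNR A' := isVNR_pi fun _ => isVNR_pi fun _ => isVNR_field
  let G' := (EtCoh.pull s).obj G
  have hG' : EtCoh.IsFiniteLocallyConstant G' := isFLC_of_isConstructible hA' (ExtShriek.isConstructible_pull s hG)
  haveI : IsIso ((EtCoh.pullPushAdj s).counit.app G') :=
    Groth.L27.EtSite.isIso_counit s (Groth.L27.EtSite.propA_of_isIntegralHom s) G'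
  haveI : IsIso ((EtCoh.pullPushAdj s).unit.app G) := by
    refine ExtShriek.isIso_of_isIso_pull s _ ?_
    haveI : IsIso ((EtCoh.pull s).map ((EtCoh.pullPushAdj s).unit.app G) ≫ (EtCoh.pullPushAdj s).counit.app G') := by
      exact cast (congrArg (fun m : _ ⟶ _ => IsIso m) ((EtCoh.pullPushAdj s).left_triangle_components G).symm) (IsIso.id _)
    exact IsIso.of_isIso_comp_right _ ((EtCoh.pullPushAdj s).counit.app G')
  refine ExtShriek.isConstructible_of_iso
    ((EtCoh.push f).mapIso (asIso ((EtCoh.pullPushAdj s).unit.app G)) ≪≫ (EtCoh.pushComp f s).app G').symm ?_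
  haveI := Groth.L27.ExtZero.jCont (s ≫ f)
  exact isConstructible_of_isFLC (Strata.isFLC_of_iso
    ((Groth.L27.ExtZero.shriekIso (s ≫ f) ≪≫ Groth.L27.Supp.shriekPushIso (s ≫ f)).app G')
    (ExtShriek.isFLC_extZero_of_finite (s ≫ f) G' hG'))

omit [∀ i, IsAlgClosed (K i)] in
/-- every affine scheme is covered by the spectrum of a product of algebraically closed fields -/
theorem exists_surjective_prod (U : Scheme.{u}) [IsAffine U] :
    ∃ g : Spec (CommRingCat.of (∀ y : U, AlgebraicClosure (U.residueField y))) ⟶ U, Surjective g := by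
  let L : U → Type u := fun y => AlgebraicClosure (U.residueField y)
  let t : ∀ y : U, Spec (CommRingCat.of (L y)) ⟶ U := fun y =>
    Spec.map (CommRingCat.ofHom (algebraMap (U.residueField y) (L y))) ≫ U.fromSpecResidueField y
  let φ : Γ(U, ⊤) ⟶ CommRingCat.of (∀ y, L y) :=
    CommRingCat.ofHom (RingHom.pi fun y => (Spec.preimage (t y ≫ U.isoSpec.hom)).hom)
  refine ⟨Spec.map φ ≫ U.isoSpec.inv, ⟨fun y => ?_⟩⟩
  let e : Spec (CommRingCat.of (L y)) ⟶ Spec (CommRingCat.of (∀ y, L y)) :=
    Spec.map (CommRingCat.ofHom (Pi.evalRingHom L y))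
  refine ⟨e default, ?_⟩
  have he : e ≫ Spec.map φ ≫ U.isoSpec.inv = t y := by
    rw [← Category.assoc, ← Spec.map_comp,
      show φ ≫ CommRingCat.ofHom (Pi.evalRingHom L y) = Spec.preimage (t y ≫ U.isoSpec.hom) from rfl,
      Spec.map_preimage, Category.assoc, Iso.hom_inv_id, Category.comp_id]
  rw [← Scheme.Hom.comp_apply, he]
  show U.fromSpecResidueField y _ = y
  exact Scheme.fromSpecResidueField_apply _ _

omit [∀ i, IsAlgClosed (K i)] in
theorem isConstructible_push {X Y : Scheme.{u}} (f : X ⟶ Y) [IsFinite f] [LocallyOfFinitePresentation f]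
    {F : EtCoh.Ab X} (hF : EtPBC.IsConstructible F) : EtPBC.IsConstructible ((EtCoh.push f).obj F) := by
  rw [Strata.isConstructible_iff]
  intro U hU
  haveI : IsAffine U.toScheme := hU
  obtain ⟨g, hg⟩ := exists_surjective_prod U.toScheme
  haveI := hg
  have hbc := IsPullback.of_hasPullback f (g ≫ U.ι)
  haveI := Groth.L27.EtSite.BC.isIso_baseChange0 hbc F
  have h : EtPBC.IsConstructible ((EtCoh.pull g).obj ((EtCoh.pull U.ι).obj ((EtCoh.push f).obj F))) :=
    ExtShriek.isConstructible_of_iso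
      ((asIso (EtCoh.baseChange0 f (g ≫ U.ι) (pullback.snd f (g ≫ U.ι)) (pullback.fst f (g ≫ U.ι)) hbc.w F)).symm ≪≫
        (EtCore.pullComp g U.ι).app _)
      (isConstructible_push_prod (pullback.snd f (g ≫ U.ι)) (ExtShriek.isConstructible_pull (pullback.fst f (g ≫ U.ι)) hF))
  have hU' := ExtShriek.isConstructible_of_pull_surjective g h
  rw [Strata.isConstructible_iff] at hU'
  exact ((Strata.loc_iff_strat (Strata.stable_lcPred _)).1 hU').mono fun T k hk =>
    (Strata.lcPred_comp _ U.ι k).1 hk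

end Groth.L28.FinitePush
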