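import Mathlib.Algebra.Module.FinitePresentation
import Mathlib.RingTheory.Finiteness.ModuleFinitePresentation
import Mathlib.FieldTheory.IsAlgClosed.Basic
import Mathlib.RingTheory.IntegralClosure.IsIntegralClosure.Basic
import Mathlib.RingTheory.Etale.Basic
import Mathlib.RingTheory.Etale.Pi
import Mathlib.RingTheory.Localization.Away.Lemmas
import Mathlib.RingTheory.Nilpotent.Lemmas

/-!
Finite algebras of finite presentation over products of algebraically closed fields: up to nilpotents they
are products of direct factors of the base.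
-/

set_option autoImplicit false
set_option linter.style.haveILetI false

universe u

open Polynomial

namespace Groth.L28.FinitePush

variable {ι : Type u} {K : ι → Type u} [∀ i, Field (K i)]

/-- von Neumann regular rings -/
def IsVNR (A : Type*) [CommRing A] : Prop := ∀ a : A, ∃ b, a * b * a = a

theorem isVNR_pi {κ : Type*} {R : κ → Type*} [∀ k, CommRing (R k)] (h : ∀ k, IsVNR (R k)) : IsVNR (∀ k, R k) :=
  fun a => ⟨fun k => (h k (a k)).choose, _root_.funext fun k => (h k (a k)).choose_spec⟩

theorem isVNR_field {F : Type*} [Field F] : IsVNR F := fun a => ⟨a⁻¹, by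
  by_cases h : a = 0
  · simp [h]
  · field_simp⟩

variable {B : Type u} [CommRing B] [Algebra (∀ i, K i) B]

theorem eq_zero_of_forall_single [DecidableEq ι] [Module.FinitePresentation (∀ i, K i) B] (x : B)
    (h : ∀ i, (Pi.single i 1 : ∀ i, K i) • x = 0) : x = 0 := by
  obtain ⟨n, m, f, g, hf, hex⟩ := Module.FinitePresentation.exists_fin' (R := ∀ i, K i) (M := B)
  obtain ⟨y, rfl⟩ := hf x
  have hi : ∀ i, ∃ c : Fin m → ∀ i, K i, g c = (Pi.single i 1 : ∀ i, K i) • y := fun i =>
    (hex _).1 (by rw [map_smul]; exact h i)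
  choose c hc using hi
  let d : Fin m → ∀ i, K i := fun l i => c i l i
  suffices hd : g d = y by rw [← hd]; exact (hex _).2 ⟨d, rfl⟩
  funext j
  funext i
  have e : (Pi.single i 1 : ∀ i, K i) • d = (Pi.single i 1 : ∀ i, K i) • c i := by
    funext l; funext i'
    by_cases hii : i' = i
    · subst hii; simp [d]
    · simp [Pi.single_eq_of_ne hii]
  have e' := congrFun (congrFun (congrArg g e) j) i
  rw [map_smul, map_smul, hc i] at e'
  simpa using e'

/-- homomorphisms to the `i`-th factor compatible with the structure map -/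
abbrev Homs (K : ι → Type u) [∀ i, Field (K i)] (B : Type u) [CommRing B] [Algebra (∀ i, K i) B] (i : ι) : Type u :=
  {φ : B →+* K i // φ.comp (algebraMap (∀ i, K i) B) = Pi.evalRingHom K i}

theorem homs_algebraMap {i : ι} (φ : Homs K B i) (a : ∀ i, K i) : φ.1 (algebraMap (∀ i, K i) B a) = a i :=
  RingHom.congr_fun φ.2 a

theorem homs_ext_span {i : ι} {n : ℕ} {s : Fin n → B} (hs : Submodule.span (∀ i, K i) (Set.range s) = ⊤)
    {φ ψ : Homs K B i} (h : ∀ j, φ.1 (s j) = ψ.1 (s j)) : φ = ψ := by
  refine Subtype.ext (RingHom.ext fun x => ?_)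
  obtain ⟨c, rfl⟩ := (Submodule.mem_span_range_iff_exists_fun _).1 (hs.symm ▸ Submodule.mem_top : x ∈ _)
  simp only [map_sum, Algebra.smul_def, map_mul, homs_algebraMap, h]

theorem exists_bound [Module.Finite (∀ i, K i) B] :
    ∃ N : ℕ, ∀ i, Finite (Homs K B i) ∧ Nat.card (Homs K B i) ≤ N := by
  classical
  obtain ⟨n, s, hs⟩ := Module.Finite.exists_fin (R := ∀ i, K i) (M := B)
  choose p hp hps using fun j => Algebra.IsIntegral.isIntegral (R := ∀ i, K i) (s j)
  refine ⟨∏ j, (p j).natDegree, fun i => ?_⟩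
  let roots : Fin n → Finset (K i) := fun j => ((p j).map (Pi.evalRingHom K i)).roots.toFinset
  have hmem : ∀ (φ : Homs K B i) j, φ.1 (s j) ∈ roots j := fun φ j => by
    rw [Multiset.mem_toFinset, mem_roots ((hp j).map _).ne_zero, IsRoot, eval_map]
    refine (congrArg (fun h => eval₂ h (φ.1 (s j)) (p j)) φ.2.symm).trans ?_
    rw [← hom_eval₂, hps j, map_zero]
  let g : Homs K B i → ∀ j, roots j := fun φ j => ⟨φ.1 (s j), hmem φ j⟩
  have hg : Function.Injective g := fun φ ψ h =>
    homs_ext_span hs fun j => congrArg Subtype.val (congrFun h j)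
  refine ⟨Finite.of_injective g hg, (Nat.card_le_card_of_injective g hg).trans ?_⟩
  rw [Nat.card_eq_fintype_card, Fintype.card_pi]
  refine Finset.prod_le_prod' fun j _ => ?_
  rw [Fintype.card_coe]
  exact (Multiset.toFinset_card_le _).trans ((card_roots' _).trans natDegree_map_le)

theorem isNilpotent_of_homs [∀ i, IsAlgClosed (K i)] [Module.FinitePresentation (∀ i, K i) B] (x : B)
    (hx : ∀ i (φ : Homs K B i), φ.1 x = 0) : IsNilpotent x := by
  classical
  obtain ⟨p, hp, hpx⟩ := Algebra.IsIntegral.isIntegral (R := ∀ i, K i) x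
  refine ⟨p.natDegree, eq_zero_of_forall_single (K := K) _ fun i => ?_⟩
  let e : B := algebraMap (∀ i, K i) B (Pi.single i 1)
  have he : e * e = e := by rw [← map_mul, ← Pi.single_mul, one_mul]
  let I : Ideal B := Ideal.span {1 - e}
  suffices hmem : x ^ p.natDegree ∈ I by
    obtain ⟨c, hc⟩ := Ideal.mem_span_singleton'.1 hmem
    rw [Algebra.smul_def, ← hc]
    show e * (c * (1 - e)) = 0
    rw [mul_left_comm, mul_sub, mul_one, he, sub_self, mul_zero]
  let π : B →+* B ⧸ I := Ideal.Quotient.mk I
  have he1 : π e = 1 := by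
    rw [← map_one π, eq_comm, Ideal.Quotient.eq]; exact Ideal.mem_span_singleton_self _
  let ρ : K i →+* B ⧸ I :=
    { toFun := fun c => π (algebraMap (∀ i, K i) B (Pi.single i c))
      map_one' := he1
      map_mul' := fun c c' => by rw [Pi.single_mul, map_mul, map_mul]
      map_zero' := by rw [Pi.single_zero, map_zero, map_zero]
      map_add' := fun c c' => by rw [Pi.single_add, map_add, map_add] }
  have hρ : ρ.comp (Pi.evalRingHom K i) = π.comp (algebraMap (∀ i, K i) B) := RingHom.ext fun a => by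
    show π (algebraMap (∀ i, K i) B (Pi.single i (a i))) = π (algebraMap _ _ a)
    rw [show (Pi.single i (a i) : ∀ i, K i) = a * Pi.single i 1 from _root_.funext fun i' => by
      by_cases h : i' = i
      · subst h; simp
      · simp [Pi.single_eq_of_ne h], map_mul, map_mul, he1, mul_one]
  letI := ρ.toAlgebra
  haveI : Algebra.IsIntegral (K i) (B ⧸ I) := ⟨fun z => by
    obtain ⟨b, rfl⟩ := Ideal.Quotient.mk_surjective z
    obtain ⟨q, hq, hqb⟩ := Algebra.IsIntegral.isIntegral (R := ∀ i, K i) b
    refine ⟨q.map (Pi.evalRingHom K i), hq.map _, ?_⟩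
    rw [RingHom.algebraMap_toAlgebra, eval₂_map, hρ, ← hom_eval₂, hqb, map_zero]⟩
  have hnil : IsNilpotent (π x) := by
    rw [← mem_nilradical, nilradical_eq_sInf, Submodule.mem_sInf]
    intro (P : Ideal (B ⧸ I)) (hP : P.IsPrime)
    haveI : Algebra.IsIntegral (K i) ((B ⧸ I) ⧸ P) := inferInstance
    let b : K i ≃+* (B ⧸ I) ⧸ P :=
      RingEquiv.ofBijective _ (IsAlgClosed.algebraMap_bijective_of_isIntegral (k := K i) (K := (B ⧸ I) ⧸ P))
    let φ : Homs K B i := ⟨b.symm.toRingHom.comp ((Ideal.Quotient.mk P).comp π), RingHom.ext fun a => by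
      refine b.injective ((b.apply_symm_apply _).trans ?_)
      exact (congrArg (Ideal.Quotient.mk P) (RingHom.congr_fun hρ a)).symm⟩
    exact Ideal.Quotient.eq_zero_iff_mem.1 (b.symm.injective ((hx i φ).trans (map_zero _).symm))
  obtain ⟨v, hv⟩ := hnil
  have h1 : minpoly (K i) (π x) ∣ X ^ v := minpoly.dvd _ _ (by rw [map_pow, aeval_X, hv])
  obtain ⟨r, -, hr⟩ := (dvd_prime_pow prime_X v).1 h1
  have hr' : minpoly (K i) (π x) = X ^ r :=
    eq_of_monic_of_associated (minpoly.monic (Algebra.IsIntegral.isIntegral _)) (monic_X_pow r) hr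
  have h0 : (π x) ^ r = 0 := by
    have h := minpoly.aeval (K i) (π x)
    rwa [hr', map_pow, aeval_X] at h
  have hle : r ≤ p.natDegree := by
    have h2 : minpoly (K i) (π x) ∣ p.map (Pi.evalRingHom K i) := minpoly.dvd _ _ (by
      rw [aeval_def, RingHom.algebraMap_toAlgebra, eval₂_map, hρ, ← hom_eval₂, hpx, map_zero])
    have h3 := natDegree_le_of_dvd h2 (hp.map _).ne_zero
    rw [hr', natDegree_X_pow] at h3
    exact h3.trans natDegree_map_le
  rw [← Ideal.Quotient.eq_zero_iff_mem, map_pow]
  exact pow_eq_zero_of_le hle h0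

section

variable (S : Set ι)

/-- restriction to the factors in `S` -/
def restr : (∀ i, K i) →+* ∀ i : S, K i.1 := RingHom.pi fun i => Pi.evalRingHom K i.1

theorem surjective_restr : Function.Surjective (restr (K := K) S) := fun a => by
  classical
  exact ⟨fun i => if h : i ∈ S then a ⟨i, h⟩ else 0, _root_.funext fun i => dif_pos i.2⟩

open Classical in
theorem isLocalizationAway_restr :
    letI := (restr (K := K) S).toAlgebra
    IsLocalization.Away (fun i => if i ∈ S then 1 else 0 : ∀ i, K i) (∀ i : S, K i.1) := by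
  letI := (restr (K := K) S).toAlgebra
  refine IsLocalization.away_of_isIdempotentElem ?_ ?_ (surjective_restr S)
  · funext i
    by_cases h : i ∈ S <;> simp [h]
  · rw [RingHom.algebraMap_toAlgebra]
    refine le_antisymm (fun a ha => Ideal.mem_span_singleton'.2 ⟨a, _root_.funext fun i => ?_⟩) ?_
    · by_cases h : i ∈ S
      · have h' : a i = 0 := congrFun (RingHom.mem_ker.1 ha) ⟨i, h⟩
        simp [h, h']
      · simp [h]
    · rw [Ideal.span_singleton_le_iff_mem, RingHom.mem_ker]
      funext i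
      show (1 : K i.1) - (if i.1 ∈ S then 1 else 0) = 0
      rw [if_pos i.2, sub_self]

end

/-- a finite algebra of finite presentation maps onto a finite product of direct factors with nil kernel -/
theorem exists_splitting [∀ i, IsAlgClosed (K i)] [Module.FinitePresentation (∀ i, K i) B] :
    ∃ (N : ℕ) (S : Fin N → Set ι) (σ : B →+* ∀ (k : Fin N) (i : S k), K i.1), Function.Surjective σ ∧
      (∀ x, σ x = 0 → IsNilpotent x) ∧ σ.comp (algebraMap (∀ i, K i) B) = RingHom.pi fun k => restr (S k) := by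
  classical
  haveI : Module.Finite (∀ i, K i) B := inferInstance
  obtain ⟨N, hN⟩ := exists_bound (K := K) (B := B)
  obtain ⟨n, s, hs⟩ := Module.Finite.exists_fin (R := ∀ i, K i) (M := B)
  haveI : ∀ i, Finite (Homs K B i) := fun i => (hN i).1
  let e (i : ι) : Homs K B i ≃ Fin (Nat.card (Homs K B i)) := Finite.equivFin _
  let S : Fin N → Set ι := fun k => {i | k.1 < Nat.card (Homs K B i)}
  let φ (k : Fin N) (i : S k) : Homs K B i.1 := (e i.1).symm ⟨k.1, i.2⟩
  let σ : B →+* ∀ (k : Fin N) (i : S k), K i.1 := RingHom.pi fun k => RingHom.pi fun i => (φ k i).1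
  have hσa : ∀ (a : ∀ i, K i) k (i : S k), σ (algebraMap _ _ a) k i = a i.1 := fun a k i => homs_algebraMap (φ k i) a
  have hsep : ∀ k l : Fin N, k ≠ l → ∃ u : B, σ u k = 1 ∧ σ u l = 0 := by
    intro k l hkl
    let T : Set ι := S k ∩ S l
    have hT : ∀ i (hi : i ∈ T), ∃ j, σ (s j) k ⟨i, hi.1⟩ ≠ σ (s j) l ⟨i, hi.2⟩ := fun i hi => by
      by_contra hcon
      rw [not_exists] at hcon
      have h1 := congrArg (e i) (homs_ext_span hs (fun j => not_not.1 (hcon j)) :
        φ k ⟨i, hi.1⟩ = φ l ⟨i, hi.2⟩)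
      simp only [φ, Equiv.apply_symm_apply, Fin.mk.injEq] at h1
      exact hkl (Fin.ext h1)
    choose J hJ using hT
    let c : Fin n → ∀ i, K i := fun j i =>
      if hi : i ∈ T then (if J i hi = j then (σ (s j) k ⟨i, hi.1⟩ - σ (s j) l ⟨i, hi.2⟩)⁻¹ else 0) else 0
    let b : B := ∑ j, algebraMap _ _ (c j) * s j
    have hb : ∀ i (hi : i ∈ T), σ b k ⟨i, hi.1⟩ - σ b l ⟨i, hi.2⟩ = 1 := fun i hi => by
      simp only [b, map_sum, map_mul, Finset.sum_apply, Pi.mul_apply, hσa, ← Finset.sum_sub_distrib, ← mul_sub]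
      rw [Finset.sum_eq_single (J i hi)]
      · simp only [c, dif_pos hi, if_true]
        exact inv_mul_cancel₀ (sub_ne_zero.2 (hJ i hi))
      · exact fun j _ hj => by simp [c, dif_pos hi, Ne.symm hj]
      · exact fun h => absurd (Finset.mem_univ _) h
    let one_T : ∀ i, K i := fun i => if i ∈ T then 1 else 0
    let g : ∀ i, K i := fun i => if i ∈ S k ∧ i ∉ S l then 1 else 0
    let d : ∀ i, K i := fun i => if hi : i ∈ T then σ b l ⟨i, hi.2⟩ else 0
    refine ⟨algebraMap _ _ one_T * (b - algebraMap _ _ d) + algebraMap _ _ g, _root_.funext fun i => ?_, _root_.funext fun i => ?_⟩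
    · simp only [map_add, map_mul, map_sub, Pi.add_apply, Pi.mul_apply, Pi.sub_apply, hσa]
      by_cases hl : i.1 ∈ S l
      · have hi : i.1 ∈ T := ⟨i.2, hl⟩
        simp only [one_T, g, d, if_pos hi, dif_pos hi, not_true, hl, and_false, if_false, one_mul, add_zero]
        exact hb i.1 hi
      · have hi : i.1 ∉ T := fun h => hl h.2
        simp [one_T, g, hi, hl, i.2]
    · simp only [map_add, map_mul, map_sub, Pi.add_apply, Pi.mul_apply, Pi.sub_apply, hσa]
      by_cases hk : i.1 ∈ S k
      · have hi : i.1 ∈ T := ⟨hk, i.2⟩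
        simp [one_T, g, d, hi, i.2]
      · have hi : i.1 ∉ T := fun h => hk h.1
        simp [one_T, g, hi, i.2]
  refine ⟨N, S, σ, fun a => ?_, fun x hx => isNilpotent_of_homs (K := K) x fun i ψ => ?_, ?_⟩
  · choose u hu1 hu0 using hsep
    let v : Fin N → B := fun k => ∏ l ∈ (Finset.univ.erase k).attach, u k l.1 (Finset.ne_of_mem_erase l.2).symm
    have hv : ∀ k l, σ (v k) l = if l = k then 1 else 0 := fun k l => by
      simp only [v, map_prod, Finset.prod_apply]
      split_ifs with h
      · subst h; exact Finset.prod_eq_one fun m _ => hu1 _ _ _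
      · exact Finset.prod_eq_zero (Finset.mem_attach _ ⟨l, Finset.mem_erase.2 ⟨h, Finset.mem_univ _⟩⟩) (hu0 _ _ _)
    choose a' ha' using fun k => surjective_restr (K := K) (S k) (a k)
    refine ⟨∑ k, algebraMap _ _ (a' k) * v k, _root_.funext fun l => _root_.funext fun i => ?_⟩
    simp only [map_sum, map_mul, Finset.sum_apply, Pi.mul_apply, hσa, hv]
    rw [Finset.sum_eq_single l]
    · rw [if_pos rfl, Pi.one_apply, mul_one]
      exact congrFun (ha' l) i
    · intro k _ hk; rw [if_neg (Ne.symm hk), Pi.zero_apply, mul_zero]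
    · exact fun h => absurd (Finset.mem_univ _) h
  · have hc := (hN i).2
    let k : Fin N := ⟨(e i ψ).1, lt_of_lt_of_le (e i ψ).2 hc⟩
    have hψ : φ k ⟨i, (e i ψ).2⟩ = ψ := (e i).symm_apply_apply ψ
    rw [← hψ]
    exact congrFun (congrFun hx k) ⟨i, (e i ψ).2⟩
  · exact RingHom.ext fun a => _root_.funext fun k => _root_.funext fun i => hσa a k i

end Groth.L28.FinitePush
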